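import Mathlib
import Cfsg.Prelude.Def_Characters

/-!
# Structure of elementary groups relative to a prime `p`

For a finite group `E` that is elementary for some prime `r` and any prime `p`, the `p`-regular
elements of `E` form a normal subgroup `Q` of `p`-power index, and this index divides the order of
the centralizer of every element of `Q`.
-/

set_option autoImplicit false

namespace Cfsg.Agent.Lib.Helper76

/-- The subgroup of `p`-regular elements of an elementary group. -/
theorem exists_pRegular_subgroup {E : Type*} [Group E] [Finite E] (r p : ℕ) (hr : r.Prime)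
    (hp : p.Prime) (hE : Cfsg.IsElementary r E) :
    ∃ Q : Subgroup E, Q.Normal ∧ (∀ e : E, e ∈ Q ↔ ¬ p ∣ orderOf e) ∧ (∃ k : ℕ, Q.index = p ^ k) ∧
      ∀ y ∈ Q, Q.index ∣ Nat.card (Subgroup.centralizer ({y} : Set E)) := by
  classical
  have : Fact p.Prime := ⟨hp⟩
  obtain ⟨x, hxc, hxr, k, hk⟩ := hE
  have hxle : Subgroup.zpowers x ≤ Subgroup.center E := by
    rw [Subgroup.zpowers_le]; exact hxc
  by_cases hrp : r = p
  · -- `Q = ⟨x⟩`
    subst hrp
    have hQn : (Subgroup.zpowers x).Normal := by
      constructor
      intro n hn g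
      have hnc : n ∈ Subgroup.center E := hxle hn
      have : g * n * g⁻¹ = n := by
        rw [Subgroup.mem_center_iff] at hnc
        rw [hnc g, mul_inv_cancel_right]
      rw [this]; exact hn
    refine ⟨Subgroup.zpowers x, hQn, ?_, ⟨k, hk⟩, ?_⟩
    · intro e
      constructor
      · intro he hdvd
        have h1 : orderOf e ∣ orderOf x := orderOf_dvd_of_mem_zpowers he
        have h2 : r ∣ orderOf x := hdvd.trans h1
        have h3 : r ∣ Nat.gcd (orderOf x) r := Nat.dvd_gcd h2 dvd_rfl
        rw [hxr] at h3
        exact hp.one_lt.ne' (Nat.dvd_one.mp h3)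
      · intro he
        rw [← QuotientGroup.eq_one_iff (N := Subgroup.zpowers x) e]
        have hcard : Nat.card (E ⧸ Subgroup.zpowers x) = r ^ k := by
          rw [← Subgroup.index_eq_card, hk]
        have h1 : ((e : E ⧸ Subgroup.zpowers x)) ^ (r ^ k) = 1 := by
          rw [← hcard]; exact pow_card_eq_one'
        have h2 : ((e : E ⧸ Subgroup.zpowers x)) ^ (orderOf e) = 1 := by
          rw [← QuotientGroup.mk_pow, pow_orderOf_eq_one]; rfl
        have h3 : orderOf (e : E ⧸ Subgroup.zpowers x) ∣ Nat.gcd (r ^ k) (orderOf e) :=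
          Nat.dvd_gcd (orderOf_dvd_of_pow_eq_one h1) (orderOf_dvd_of_pow_eq_one h2)
        have h4 : Nat.gcd (r ^ k) (orderOf e) = 1 :=
          Nat.Coprime.pow_left k ((Nat.Prime.coprime_iff_not_dvd hp).mpr he)
        rw [h4, Nat.dvd_one, orderOf_eq_one_iff] at h3
        exact h3
    · intro y hy
      have hyc : y ∈ Subgroup.center E := hxle hy
      have htop : Subgroup.centralizer ({y} : Set E) = ⊤ := by
        rw [eq_top_iff]
        intro g _
        rw [Subgroup.mem_centralizer_singleton_iff]
        rw [Subgroup.mem_center_iff] at hyc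
        exact hyc g
      rw [htop, Subgroup.card_top]
      exact Subgroup.index_dvd_card _
  · -- `r ≠ p`
    have hZi : (Subgroup.center E).index ∣ r ^ k := by
      rw [← hk]; exact Subgroup.index_dvd_of_le hxle
    obtain ⟨i, -, hi⟩ := (Nat.dvd_prime_pow hr).mp hZi
    set v := (Nat.card E).factorization p with hv
    set N := Nat.card E / p ^ v with hN
    have hcardE : p ^ v * N = Nat.card E := Nat.ordProj_mul_ordCompl_eq_self (Nat.card E) p
    have hpN : ¬ p ∣ N := Nat.not_dvd_ordCompl hp Nat.card_pos.ne'
    have hpr : ¬ p ∣ r ^ i := by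
      intro h
      have := hp.dvd_of_dvd_pow h
      exact hrp ((Nat.prime_dvd_prime_iff_eq hp hr).mp this).symm
    let ψ : E →* Subgroup.center E :=
      { toFun := fun e => (MonoidHom.transferCenterPow E e) ^ N
        map_one' := by rw [map_one, one_pow]
        map_mul' := fun a b => by
          rw [map_mul]
          have hc : Commute (MonoidHom.transferCenterPow E a) (MonoidHom.transferCenterPow E b) := by
            apply Subtype.ext
            have := (MonoidHom.transferCenterPow E b).2
            rw [Subgroup.mem_center_iff] at this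
            exact this _
          exact hc.mul_pow N }
    have hψ : ∀ e : E, ((ψ e : Subgroup.center E) : E) = (e ^ (r ^ i)) ^ N := by
      intro e
      show (((MonoidHom.transferCenterPow E e) ^ N : Subgroup.center E) : E) = _
      rw [SubmonoidClass.coe_pow, MonoidHom.transferCenterPow_apply, hi]
    have hmem : ∀ e : E, e ∈ ψ.ker ↔ orderOf e ∣ r ^ i * N := by
      intro e
      rw [MonoidHom.mem_ker, Subtype.ext_iff, hψ, ← pow_mul, orderOf_dvd_iff_pow_eq_one]
      rfl
    have hmem' : ∀ e : E, e ∈ ψ.ker ↔ ¬ p ∣ orderOf e := by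
      intro e
      rw [hmem]
      constructor
      · intro h hdvd
        rcases (Nat.Prime.dvd_mul hp).mp (hdvd.trans h) with h1 | h1
        · exact hpr h1
        · exact hpN h1
      · intro h
        have h1 : orderOf e ∣ p ^ v * N := by rw [hcardE]; exact orderOf_dvd_natCard e
        have h2 : Nat.Coprime (orderOf e) (p ^ v) :=
          Nat.Coprime.pow_right v (Nat.Coprime.symm ((Nat.Prime.coprime_iff_not_dvd hp).mpr h))
        exact (h2.dvd_of_dvd_mul_left h1).mul_left _
    have hPG : IsPGroup p (E ⧸ ψ.ker) := by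
      intro q
      refine QuotientGroup.induction_on q (fun e => ?_)
      refine ⟨v, ?_⟩
      rw [← QuotientGroup.mk_pow, QuotientGroup.eq_one_iff, hmem, orderOf_dvd_iff_pow_eq_one,
        ← pow_mul]
      have : p ^ v * (r ^ i * N) = Nat.card E * r ^ i := by rw [← hcardE]; ring
      rw [this, pow_mul, pow_card_eq_one', one_pow]
    obtain ⟨j, hj⟩ := IsPGroup.iff_card.mp hPG
    have hidx : ψ.ker.index = p ^ j := by rw [Subgroup.index_eq_card, hj]
    refine ⟨ψ.ker, inferInstance, hmem', ⟨j, hidx⟩, ?_⟩
    intro y _
    have h1 : p ^ j ∣ Nat.card (Subgroup.center E) * r ^ i := by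
      rw [← hi, Subgroup.card_mul_index, ← hidx]
      exact Subgroup.index_dvd_card _
    have h2 : Nat.Coprime (p ^ j) (r ^ i) :=
      Nat.Coprime.pow_left j ((Nat.Prime.coprime_iff_not_dvd hp).mpr hpr)
    rw [hidx]
    exact (h2.dvd_of_dvd_mul_right h1).trans
      (Subgroup.card_dvd_of_le (Subgroup.center_le_centralizer _))

end Cfsg.Agent.Lib.Helper76
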