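import Mathlib
import Cfsg.Agent.S0164
import Cfsg.Agent.S0165
import Cfsg.Agent.Lib.Helper76.ElemStruct
import Cfsg.Agent.Lib.Helper26.VChar
import Cfsg.Agent.Lib.Helper16.LocalRing
import Cfsg.Agent.Lib.Helper16.Osima
import Cfsg.Agent.Lib.Helper79.CharSum
import Cfsg.Agent.Lib.Helper79.ClassMult
import Cfsg.Agent.Lib.Helper75.CharInd
import Cfsg.Agent.Lib.Helper81.CharCore

/-!
# The `p`-regular part of an irreducible character

`p ^ (a - b) * χ` on `p`-regular elements, `0` elsewhere, is a generalized character, where `p ^ a`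
is the `p`-part of `|G|` and `p ^ b` the `p`-part of `χ 1` (via Brauer's characterisation).
-/

set_option autoImplicit false

namespace Cfsg.Agent.Lib.Helper76

open Cfsg Cfsg.Agent.Lib.Helper16 Cfsg.Agent.Lib.Helper26

/-- A rational number `n / p ^ k` lying in the local ring at a maximal ideal over `p` is an
integer. -/
theorem int_of_memLocalRing_div_pow {p : ℕ} {M : Ideal Cfsg.AlgInt} (hM : Cfsg.IsPModular p M)
    (k : ℕ) : ∀ (n : ℤ), MemLocalRing M ((n : ℂ) / (p : ℂ) ^ k) →
      ∃ z : ℤ, (z : ℂ) = (n : ℂ) / (p : ℂ) ^ k := by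
  have hMp := isPrime_of_isPModular hM
  have hp : p.Prime := hM.1
  have hp0 : (p : ℂ) ≠ 0 := by exact_mod_cast hp.ne_zero
  induction k with
  | zero => intro n _; exact ⟨n, by simp⟩
  | succ k ih =>
    intro n h
    have h1 : MemLocalRing M ((n : ℂ) / (p : ℂ) ^ k) := by
      have : (n : ℂ) / (p : ℂ) ^ k = (p : ℂ) * ((n : ℂ) / (p : ℂ) ^ (k + 1)) := by
        field_simp
        ring
      rw [this]
      exact memLocalRing_mul hMp (memLocalRing_natCast hMp p) h
    obtain ⟨z, hz⟩ := ih n h1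
    have h2 : MemLocalIdeal M (z : ℂ) := by
      have : (z : ℂ) = (p : ℂ) * ((n : ℂ) / (p : ℂ) ^ (k + 1)) := by
        rw [hz]; field_simp; ring
      rw [this]
      exact memLocalIdeal_mul_right hMp ((memLocalIdeal_natCast_iff hM p).mpr dvd_rfl) h
    have h3 : (p : ℤ) ∣ z := by
      rw [Int.natCast_dvd]
      apply (memLocalIdeal_natCast_iff hM _).mp
      have hc : ((z.natAbs : ℕ) : ℂ) = ((z.natAbs : ℤ) : ℂ) := (Int.cast_natCast z.natAbs).symm
      rcases Int.natAbs_eq z with h4 | h4
      · rw [hc, ← h4]; exact h2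
      · have h5 : (z.natAbs : ℤ) = -z := by omega
        rw [hc, h5]
        push_cast
        exact memLocalIdeal_neg h2
    obtain ⟨z', rfl⟩ := h3
    refine ⟨z', ?_⟩
    push_cast at hz
    rw [pow_succ]
    field_simp
    field_simp at hz
    linear_combination hz

section

variable {G : Type*} [Group G] [Fintype G]

/-- Local integrality of `p ^ (a - b) / p ^ k * χ y` when `p ^ k` divides `|C_G(y)|`. -/
theorem memLocalRing_pow_div_mul_irr {p : ℕ} [Fact p.Prime] {M : Ideal Cfsg.AlgInt}
    (hM : Cfsg.IsPModular p M) (χ : Cfsg.IrrCharacter G) (y : G) (k : ℕ)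
    (hk : p ^ k ∣ Nat.card (Subgroup.centralizer ({y} : Set G))) :
    MemLocalRing M (((p ^ ((Nat.card G).factorization p -
      (Cfsg.charDegree (χ : G → ℂ)).factorization p) : ℕ) : ℂ) / (p : ℂ) ^ k *
        (χ : G → ℂ) y) := by
  have hMp := isPrime_of_isPModular hM
  have hp : p.Prime := Fact.out
  have hp0 : (p : ℂ) ≠ 0 := by exact_mod_cast hp.ne_zero
  obtain ⟨h1, hpos, hdvd⟩ := Cfsg.Agent.Lib.Helper79.irr_charDegree χ.2
  set d := Cfsg.charDegree (χ : G → ℂ) with hd
  set a := (Nat.card G).factorization p with ha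
  set b := d.factorization p with hb
  have hba : b ≤ a := (Nat.factorization_le_iff_dvd hpos.ne' Nat.card_pos.ne').mpr hdvd p
  set d' := d / p ^ b with hd'
  set g' := Nat.card G / p ^ a with hg'
  have hdd : p ^ b * d' = d := Nat.ordProj_mul_ordCompl_eq_self d p
  have hgg : p ^ a * g' = Nat.card G := Nat.ordProj_mul_ordCompl_eq_self (Nat.card G) p
  have hpg : ¬ p ∣ g' := Nat.not_dvd_ordCompl hp Nat.card_pos.ne'
  obtain ⟨c', hc'⟩ := hk
  have hidx := (Subgroup.centralizer ({y} : Set G)).card_mul_index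
  set idx := (Subgroup.centralizer ({y} : Set G)).index with hidxdef
  have hd'0 : (d' : ℂ) ≠ 0 := by
    intro h0
    have : d' = 0 := by exact_mod_cast h0
    rw [this, mul_zero] at hdd
    omega
  have hg'0 : (g' : ℂ) ≠ 0 := by
    intro h0
    have : g' = 0 := by exact_mod_cast h0
    rw [this] at hpg
    exact hpg (dvd_zero p)
  have e1 : ((p ^ (a - b) : ℕ) : ℂ) / (p : ℂ) ^ k * (χ : G → ℂ) y =
      Cfsg.centralChar (χ : G → ℂ) y * ((d' * c' : ℕ) : ℂ) * ((g' : ℕ) : ℂ)⁻¹ := by
    unfold Cfsg.centralChar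
    rw [h1, ← hidxdef]
    have hA : ((p ^ (a - b) : ℕ) : ℂ) * (p : ℂ) ^ b = (p : ℂ) ^ a := by
      push_cast
      rw [← pow_add, Nat.sub_add_cancel hba]
    have hB : (idx : ℂ) * ((p : ℂ) ^ k * (c' : ℂ)) = (p : ℂ) ^ a * (g' : ℂ) := by
      have : p ^ k * c' * idx = p ^ a * g' := by rw [← hc', hidx, hgg]
      have h2 := congrArg (fun n : ℕ => (n : ℂ)) this
      push_cast at h2
      linear_combination h2
    have hD : (d : ℂ) = (p : ℂ) ^ b * (d' : ℂ) := by
      rw [← hdd]; push_cast; rfl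
    rw [hD]
    push_cast
    field_simp
    have hpa : ((p : ℂ) ^ (a - b)) * (p : ℂ) ^ b = (p : ℂ) ^ a := by
      rw [← pow_add, Nat.sub_add_cancel hba]
    linear_combination (-(χ : G → ℂ) y) * hB + ((χ : G → ℂ) y * (g' : ℂ)) * hpa
  rw [e1]
  exact memLocalRing_mul hMp (memLocalRing_mul hMp (memLocalRing_centralChar hMp χ y)
    (memLocalRing_natCast hMp _)) (memLocalRing_inv_natCast hM hpg)

/-- On an elementary subgroup, `p ^ (a - b) * χ` on `p`-regular elements is a generalized
character. -/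
theorem isGen_pRegular_elementary {p : ℕ} [Fact p.Prime] (χ : Cfsg.IrrCharacter G)
    (E : Subgroup G) (r : ℕ) (hr : r.Prime) (hE : Cfsg.IsElementary r E) :
    Cfsg.IsGeneralizedCharacter E (fun e : E => if p ∣ orderOf (e : G) then (0 : ℂ) else
      ((p ^ ((Nat.card G).factorization p - (Cfsg.charDegree (χ : G → ℂ)).factorization p) : ℕ) : ℂ)
        * (χ : G → ℂ) e) := by
  classical
  have hp : p.Prime := Fact.out
  have hp0 : (p : ℂ) ≠ 0 := by exact_mod_cast hp.ne_zero
  have : Fintype E := Fintype.ofFinite E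
  have : Finite (Cfsg.IrrCharacter E) := Cfsg.Agent.Lib.Helper81.irr_finite E
  have : Fintype (Cfsg.IrrCharacter E) := Fintype.ofFinite _
  obtain ⟨M, hMmax, hpM⟩ := Cfsg.Agent.S0165.exists_maximal_ideal_natCast_mem p hp.one_lt
  have hM : Cfsg.IsPModular p M := ⟨hp, hMmax, hpM⟩
  have hMp : M.IsPrime := hMmax.isPrime
  obtain ⟨Q, hQn, hQmem, ⟨k, hQk⟩, hQc⟩ := exists_pRegular_subgroup r p hr hp hE
  set c : ℕ := p ^ ((Nat.card G).factorization p - (Cfsg.charDegree (χ : G → ℂ)).factorization p)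
    with hc
  set θ : E → ℂ := fun e : E => if p ∣ orderOf (e : G) then (0 : ℂ) else (c : ℂ) * (χ : G → ℂ) e
    with hθ
  have hθQ : ∀ e : E, θ e = if e ∈ Q then (c : ℂ) * (χ : G → ℂ) e else 0 := by
    intro e
    simp only [hθ]
    rw [Subgroup.orderOf_coe]
    by_cases h : p ∣ orderOf e
    · rw [if_pos h, if_neg (fun hq => (hQmem e).mp hq h)]
    · rw [if_neg h, if_pos ((hQmem e).mpr h)]
  have hθcf : Cfsg.IsClassFunction E θ := by
    intro g h
    rw [hθQ, hθQ]
    have h1 : h * g * h⁻¹ ∈ Q ↔ g ∈ Q := by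
      constructor
      · intro hq
        have := hQn.conj_mem _ hq h⁻¹
        simpa [mul_assoc] using this
      · intro hq
        exact hQn.conj_mem _ hq h
    have h2 : (χ : G → ℂ) ((h * g * h⁻¹ : E) : G) = (χ : G → ℂ) (g : G) := by
      push_cast
      exact Cfsg.Agent.Lib.Helper81.irr_conj_class χ (g : G) (h : G)
    by_cases hq : g ∈ Q
    · rw [if_pos hq, if_pos (h1.mpr hq), h2]
    · rw [if_neg hq, if_neg (fun h' => hq (h1.mp h'))]
  have hexp := classFunction_expansion hθcf
  -- the cardinalities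
  have hcardE : Nat.card Q * p ^ k = Nat.card E := by rw [← hQk, Subgroup.card_mul_index]
  have hpQ : ¬ p ∣ Nat.card Q := by
    intro hdvd
    obtain ⟨y, hy⟩ := exists_prime_orderOf_dvd_card' (G := Q) p hdvd
    have h1 : orderOf (y : E) = p := by rw [Subgroup.orderOf_coe, hy]
    exact (hQmem (y : E)).mp y.2 (by rw [h1])
  have hQ0 : (Nat.card Q : ℂ) ≠ 0 := by exact_mod_cast (Nat.card_pos (α := Q)).ne'
  have hE0 : (Nat.card E : ℂ) ≠ 0 := by exact_mod_cast (Nat.card_pos (α := E)).ne'
  -- the coefficients are integers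
  have hint : ∀ lam : Cfsg.IrrCharacter E, ∃ z : ℤ, pair θ (lam : E → ℂ) = (z : ℂ) := by
    intro lam
    have hsum : ∑ e : E, θ e * (lam : E → ℂ) e⁻¹ =
        ∑ y : Q, (c : ℂ) * (χ : G → ℂ) ((y : E) : G) * (lam : E → ℂ) (y : E)⁻¹ := by
      rw [← Finset.sum_subtype (Finset.univ.filter (fun e : E => e ∈ Q)) (by simp)
        (fun e : E => (c : ℂ) * (χ : G → ℂ) (e : G) * (lam : E → ℂ) e⁻¹)]
      rw [Finset.sum_filter]
      refine Finset.sum_congr rfl (fun e _ => ?_)
      rw [hθQ]
      by_cases hq : e ∈ Q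
      · rw [if_pos hq, if_pos hq]
      · rw [if_neg hq, if_neg hq, zero_mul]
    -- (i) rational form
    have hχQ : Cfsg.IsCharacter Q (fun y : Q => (χ : G → ℂ) ((y : E) : G)) :=
      Cfsg.Agent.Lib.Helper75.isCharacter_res Q (χ := fun e : E => (χ : G → ℂ) (e : G))
        (Cfsg.Agent.Lib.Helper75.isCharacter_res E (isCharacter_of_irr χ.2))
    have hlQ : Cfsg.IsCharacter Q (fun y : Q => (lam : E → ℂ) (y : E)) :=
      Cfsg.Agent.Lib.Helper75.isCharacter_res Q (isCharacter_of_irr lam.2)
    obtain ⟨m, hm⟩ := pair_char_nat hχQ hlQ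
    have hpairQ : ∑ y : Q, (χ : G → ℂ) ((y : E) : G) * (lam : E → ℂ) (y : E)⁻¹ =
        (Nat.card Q : ℂ) * (m : ℂ) := by
      rw [← hm]
      unfold pair
      rw [← mul_assoc, mul_inv_cancel₀ hQ0, one_mul]
      rfl
    have hrat : pair θ (lam : E → ℂ) = ((c * m : ℕ) : ℂ) / (p : ℂ) ^ k := by
      unfold pair
      rw [hsum]
      have : ∑ y : Q, (c : ℂ) * (χ : G → ℂ) ((y : E) : G) * (lam : E → ℂ) (y : E)⁻¹ =
          (c : ℂ) * ((Nat.card Q : ℂ) * (m : ℂ)) := by
        rw [← hpairQ, Finset.mul_sum]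
        refine Finset.sum_congr rfl (fun y _ => ?_)
        ring
      rw [this, ← hcardE]
      push_cast
      field_simp
    -- (ii) local integrality
    have hloc : MemLocalRing M (pair θ (lam : E → ℂ)) := by
      have e2 : pair θ (lam : E → ℂ) = (Nat.card Q : ℂ)⁻¹ *
          ∑ y : Q, ((c : ℂ) / (p : ℂ) ^ k * (χ : G → ℂ) ((y : E) : G)) *
            (lam : E → ℂ) (y : E)⁻¹ := by
        unfold pair
        rw [hsum, ← hcardE, Finset.mul_sum, Finset.mul_sum]
        refine Finset.sum_congr rfl (fun y _ => ?_)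
        push_cast
        field_simp
      rw [e2]
      refine memLocalRing_mul hMp (memLocalRing_inv_natCast hM hpQ) ?_
      refine memLocalRing_sum hMp _ _ (fun y _ => ?_)
      refine memLocalRing_mul hMp ?_ ?_
      · apply memLocalRing_pow_div_mul_irr hM χ ((y : E) : G) k
        have h1 : p ^ k ∣ Nat.card (Subgroup.centralizer ({(y : E)} : Set E)) := by
          rw [← hQk]; exact hQc (y : E) y.2
        refine h1.trans ?_
        have h2 : (Subgroup.centralizer ({(y : E)} : Set E)).map E.subtype ≤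
            Subgroup.centralizer ({((y : E) : G)} : Set G) := by
          rintro _ ⟨w, hw, rfl⟩
          rw [SetLike.mem_coe, Subgroup.mem_centralizer_singleton_iff] at hw
          rw [Subgroup.mem_centralizer_singleton_iff]
          have := congrArg (fun t : E => (t : G)) hw
          simpa using this
        have h3 : Nat.card ((Subgroup.centralizer ({(y : E)} : Set E)).map E.subtype) =
            Nat.card (Subgroup.centralizer ({(y : E)} : Set E)) :=
          Nat.card_congr ((Subgroup.centralizer ({(y : E)} : Set E)).equivMapOfInjective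
            E.subtype E.subtype_injective).symm.toEquiv
        rw [← h3]
        exact Subgroup.card_dvd_of_le h2
      · exact memLocalRing_of_isIntegral hMp
          (Cfsg.Agent.Lib.Helper79.irr_isIntegral lam.2 _)
    rw [hrat] at hloc ⊢
    have h4 := int_of_memLocalRing_div_pow hM k ((c * m : ℕ) : ℤ) (by
      have : (((c * m : ℕ) : ℤ) : ℂ) = ((c * m : ℕ) : ℂ) := Int.cast_natCast _
      rw [this]; exact hloc)
    obtain ⟨z, hz⟩ := h4
    refine ⟨z, ?_⟩
    rw [hz, Int.cast_natCast]
  choose z hz using hint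
  rw [hexp]
  apply isGen_sum
  intro lam _
  rw [hz lam, ← Cfsg.Agent.Lib.Helper26.zsmul_eq_smul]
  exact isGen_zsmul (isGen_of_irr lam.2) (z lam)

end

/-- **`p`-regular part.** For an irreducible character `χ`, the class function equal to
`p ^ (a - b) * χ` on `p`-regular elements and `0` elsewhere is a generalized character, where
`a`, `b` are the exponents of `p` in `|G|` and `χ 1`. -/
theorem isGen_pRegular {G : Type*} [Group G] [Finite G] (p : ℕ) [Fact p.Prime]
    (χ : Cfsg.IrrCharacter G) :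
    Cfsg.IsGeneralizedCharacter G (fun x : G => if p ∣ orderOf x then (0 : ℂ) else
      ((p ^ ((Nat.card G).factorization p - (Cfsg.charDegree (χ : G → ℂ)).factorization p) : ℕ) : ℂ)
        * (χ : G → ℂ) x) := by
  classical
  have : Fintype G := Fintype.ofFinite G
  apply Cfsg.Agent.S0164.result
  · intro g h
    have h1 : orderOf (h * g * h⁻¹) = orderOf g :=
      orderOf_injective (MulAut.conj h).toMonoidHom (MulAut.conj h).injective g
    simp only [h1, Cfsg.Agent.Lib.Helper81.irr_conj_class χ g h]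
  · intro E r hr hE
    exact isGen_pRegular_elementary χ E r hr hE

end Cfsg.Agent.Lib.Helper76
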