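import Mathlib
import Cfsg.Agent.Lib.Helper76.PRegChar
import Cfsg.Agent.Lib.Helper78.BlockOrth

/-!
# The `p`-regular part of an irreducible character and its block

`χ̃ = p ^ a * χ` on `p`-regular elements, `0` elsewhere, is a generalized character that is an
integer combination of the irreducible characters in the block of `χ`.
-/

set_option autoImplicit false

namespace Cfsg.Agent.Lib.Helper76

open Cfsg Cfsg.Agent.Lib.Helper16 Cfsg.Agent.Lib.Helper26 Cfsg.Agent.Lib.Helper78

/-- `p ^ a * χ` on `p`-regular elements is a generalized character. -/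
theorem isGen_pRegular_full {G : Type*} [Group G] [Finite G] (p : ℕ) [Fact p.Prime]
    (χ : Cfsg.IrrCharacter G) :
    Cfsg.IsGeneralizedCharacter G (fun x : G => if p ∣ orderOf x then (0 : ℂ) else
      ((p ^ (Nat.card G).factorization p : ℕ) : ℂ) * (χ : G → ℂ) x) := by
  classical
  have hp : p.Prime := Fact.out
  obtain ⟨h1, hpos, hdvd⟩ := Cfsg.Agent.Lib.Helper79.irr_charDegree χ.2
  have hle : (Cfsg.charDegree (χ : G → ℂ)).factorization p ≤ (Nat.card G).factorization p :=
    (Nat.factorization_le_iff_dvd hpos.ne' Nat.card_pos.ne').mpr hdvd p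
  have h := isGen_nsmul (isGen_pRegular p χ) (p ^ (Cfsg.charDegree (χ : G → ℂ)).factorization p)
  convert h using 1
  funext x
  simp only [Pi.smul_apply, nsmul_eq_mul]
  split_ifs
  · simp
  · rw [← mul_assoc, ← Nat.cast_mul, ← pow_add, Nat.add_sub_cancel' hle]

/-- The block part of the `p`-regular truncation of a character in the block is itself. -/
theorem blockPart_pRegular {G : Type*} [Group G] [Finite G] {p : ℕ} [Fact p.Prime]
    {M : Ideal Cfsg.AlgInt} (hM : Cfsg.IsPModular p M) (B : Set (Cfsg.IrrCharacter G))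
    (hB : Cfsg.IsPBlock M B) (χ : Cfsg.IrrCharacter G) (hχ : χ ∈ B) (c : ℂ) :
    Cfsg.blockPart B (fun x : G => if p ∣ orderOf x then (0 : ℂ) else c * (χ : G → ℂ) x) =
      fun x : G => if p ∣ orderOf x then (0 : ℂ) else c * (χ : G → ℂ) x := by
  classical
  let _ := Fintype.ofFinite G
  have := Cfsg.Agent.Lib.Helper81.irr_finite G
  have := Fintype.ofFinite (Cfsg.IrrCharacter G)
  funext u
  have hA := blockPart_apply B (fun x : G => if p ∣ orderOf x then (0 : ℂ) else c * (χ : G → ℂ) x) u
  by_cases hu : p ∣ orderOf u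
  · rw [if_pos hu]
    refine hA.trans ?_
    rw [Finset.sum_eq_zero, mul_zero]
    intro g _
    by_cases hg : p ∣ orderOf g
    · rw [if_pos hg, zero_mul]
    · rw [block_orth_singular_regular hM B hB hu hg, mul_zero]
  · rw [if_neg hu]
    have hA2 := blockPart_apply B (fun x : G => c * (χ : G → ℂ) x) u
    have h3 : Cfsg.blockPart B (fun x : G => if p ∣ orderOf x then (0 : ℂ) else c * (χ : G → ℂ) x) u
        = Cfsg.blockPart B (fun x : G => c * (χ : G → ℂ) x) u := by
      refine hA.trans (Eq.trans ?_ hA2.symm)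
      congr 1
      refine Finset.sum_congr rfl fun g _ => ?_
      by_cases hg : p ∣ orderOf g
      · rw [if_pos hg, block_orth_regular_singular hM B hB hu hg, zero_mul, mul_zero]
      · rw [if_neg hg]
    rw [h3]
    show ∑ᶠ ξ ∈ B, Cfsg.classInner (fun x : G => c * (χ : G → ℂ) x) (ξ : G → ℂ) * (ξ : G → ℂ) u = _
    rw [finsum_mem_eq_sum_ite, Finset.sum_eq_single χ]
    · have e : (fun x : G => c * (χ : G → ℂ) x) = c • (χ : G → ℂ) := rfl
      rw [if_pos hχ, e, classInner_smul_left, classInner_irr_self χ.2, mul_one]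
    · intro ξ _ hne
      split_ifs
      · have e : (fun x : G => c * (χ : G → ℂ) x) = c • (χ : G → ℂ) := rfl
        rw [e, classInner_smul_left,
          classInner_irr_ne χ.2 ξ.2 (fun h => hne (Subtype.ext h.symm)), mul_zero, zero_mul]
      · rfl
    · intro h; exact absurd (Finset.mem_univ χ) h

/-- **Expansion of the `p`-regular truncation in its block**: integer coefficients, given by
the inner products with the members of the block, and zero outside the block. -/
theorem pRegular_block_expansion {G : Type*} [Group G] [Fintype G] (p : ℕ) [Fact p.Prime]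
    (M : Ideal Cfsg.AlgInt) (hM : Cfsg.IsPModular p M) (B : Set (Cfsg.IrrCharacter G))
    (hB : Cfsg.IsPBlock M B) (χ : Cfsg.IrrCharacter G) (hχ : χ ∈ B) :
    ∃ a : Cfsg.IrrCharacter G → ℤ, (∀ ψ, ψ ∉ B → a ψ = 0) ∧
      (∀ ψ, ψ ∈ B → (a ψ : ℂ) = Cfsg.classInner (fun x : G => if p ∣ orderOf x then (0 : ℂ) else
        ((p ^ (Nat.card G).factorization p : ℕ) : ℂ) * (χ : G → ℂ) x) (ψ : G → ℂ)) ∧
      (fun x : G => if p ∣ orderOf x then (0 : ℂ) else
        ((p ^ (Nat.card G).factorization p : ℕ) : ℂ) * (χ : G → ℂ) x) =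
        fun x => ∑ᶠ ψ : Cfsg.IrrCharacter G, (a ψ : ℂ) * (ψ : G → ℂ) x := by
  classical
  have := Cfsg.Agent.Lib.Helper81.irr_finite G
  have := Fintype.ofFinite (Cfsg.IrrCharacter G)
  have hgen := isGen_pRegular_full p χ
  have hz := fun ψ : Cfsg.IrrCharacter G => classInner_gen_int hgen (isGen_of_irr ψ.2)
  choose z hz using hz
  refine ⟨fun ψ => if ψ ∈ B then z ψ else 0, fun ψ hψ => if_neg hψ, fun ψ hψ => ?_, ?_⟩
  · simp only [if_pos hψ, hz]
  · have hbp := blockPart_pRegular hM B hB χ hχ ((p ^ (Nat.card G).factorization p : ℕ) : ℂ)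
    have hinst : Fintype.ofFinite G = (inferInstance : Fintype G) := Subsingleton.elim _ _
    conv_lhs => rw [← hbp]
    funext u
    show ∑ᶠ ξ ∈ B, @Cfsg.classInner G _ (Fintype.ofFinite G) _ (ξ : G → ℂ) * (ξ : G → ℂ) u = _
    rw [hinst, finsum_mem_def]
    refine finsum_congr fun ψ => ?_
    rw [Set.indicator_apply]
    by_cases hψ : ψ ∈ B
    · simp only [if_pos hψ, hz]
    · simp only [if_neg hψ, Int.cast_zero, zero_mul]

end Cfsg.Agent.Lib.Helper76
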