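import Mathlib
import Cfsg.Agent.Lib.Helper76.PRegBlock
import Cfsg.Agent.Lib.Helper78.HeightZero
import Cfsg.Agent.S4425

/-!
# Heights and inner products with the `p`-regular truncation

For `χ` in a `p`-block `B`, with `χ̃ = p ^ a * χ` on `p`-regular elements and `0` elsewhere:
`χ` has height zero iff `[χ̃, ξ]` has the same `p`-adic valuation as `ξ 1` for some (equivalently
every) `ξ ∈ B` (Brauer–Feit).
-/

set_option autoImplicit false

namespace Cfsg.Agent.Lib.Helper76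

open Cfsg Cfsg.Agent.Lib.Helper16 Cfsg.Agent.Lib.Helper26 Cfsg.Agent.Lib.Helper78
open scoped ComplexConjugate

/-- rational integers in the local ideal are divisible by `p` -/
theorem int_dvd_of_memLocalIdeal {p : ℕ} {M : Ideal Cfsg.AlgInt} (hM : Cfsg.IsPModular p M)
    (z : ℤ) (h : MemLocalIdeal M (z : ℂ)) : (p : ℤ) ∣ z := by
  rw [Int.natCast_dvd]
  apply (memLocalIdeal_natCast_iff hM _).mp
  have hc : ((z.natAbs : ℕ) : ℂ) = ((z.natAbs : ℤ) : ℂ) := (Int.cast_natCast z.natAbs).symm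
  rcases Int.natAbs_eq z with h4 | h4
  · rw [hc, ← h4]; exact h
  · have h5 : (z.natAbs : ℤ) = -z := by omega
    rw [hc, h5]
    push_cast
    exact memLocalIdeal_neg h

/-- rational integers divisible by `p` lie in the local ideal -/
theorem memLocalIdeal_intCast_of_dvd {p : ℕ} {M : Ideal Cfsg.AlgInt} (hM : Cfsg.IsPModular p M)
    (z : ℤ) (h : (p : ℤ) ∣ z) : MemLocalIdeal M (z : ℂ) := by
  have hMp := isPrime_of_isPModular hM
  obtain ⟨c, rfl⟩ := h
  push_cast
  exact memLocalIdeal_mul_right hMp ((memLocalIdeal_natCast_iff hM p).mpr dvd_rfl)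
    (memLocalRing_intCast hMp c)

/-- **Valuation lemma.** If `n * m = d * t` with `n` an integer, `m` prime to `p`, `d` a positive
integer and `t` a local integer, then `p ^ v_p(d)` divides `n`, and the quotient is divisible by
`p` exactly when `t` lies in the local ideal. -/
theorem val_lemma {p : ℕ} {M : Ideal Cfsg.AlgInt} (hM : Cfsg.IsPModular p M) (n : ℤ) (d m : ℕ)
    (hd : 0 < d) (hm : ¬ p ∣ m) (t : ℂ) (ht : MemLocalRing M t)
    (h : (n : ℂ) * (m : ℂ) = (d : ℂ) * t) :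
    ∃ n' : ℤ, n = (p : ℤ) ^ (d.factorization p) * n' ∧ (MemLocalIdeal M t ↔ (p : ℤ) ∣ n') := by
  have hMp := isPrime_of_isPModular hM
  have hp : p.Prime := hM.1
  have hp0 : (p : ℂ) ≠ 0 := by exact_mod_cast hp.ne_zero
  set b := d.factorization p with hb
  set d' := d / p ^ b with hd'
  have hdd : p ^ b * d' = d := Nat.ordProj_mul_ordCompl_eq_self d p
  have hpd : ¬ p ∣ d' := Nat.not_dvd_ordCompl hp hd.ne'
  have hdC : (d : ℂ) = (p : ℂ) ^ b * (d' : ℂ) := by
    rw [← hdd]; push_cast; rfl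
  have h1 : MemLocalRing M (((n * m : ℤ) : ℂ) / (p : ℂ) ^ b) := by
    have e : ((n * m : ℤ) : ℂ) / (p : ℂ) ^ b = (d' : ℂ) * t := by
      push_cast
      rw [h, hdC]
      field_simp
    rw [e]
    exact memLocalRing_mul hMp (memLocalRing_natCast hMp d') ht
  obtain ⟨z, hz⟩ := int_of_memLocalRing_div_pow hM b _ h1
  have hz' : z * (p : ℤ) ^ b = n * m := by
    have : (z : ℂ) * (p : ℂ) ^ b = ((n * m : ℤ) : ℂ) := by
      rw [hz]; field_simp
    exact_mod_cast this
  have hcop : IsCoprime ((p : ℤ) ^ b) (m : ℤ) := by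
    have : Nat.Coprime (p ^ b) m :=
      Nat.Coprime.pow_left b ((Nat.Prime.coprime_iff_not_dvd hp).mpr hm)
    exact_mod_cast Nat.isCoprime_iff_coprime.mpr this
  have hdvd : (p : ℤ) ^ b ∣ n := hcop.dvd_of_dvd_mul_right ⟨z, by rw [← hz']; ring⟩
  obtain ⟨n', hn'⟩ := hdvd
  refine ⟨n', hn', ?_⟩
  have h2 : ((n' * m : ℤ) : ℂ) = (d' : ℂ) * t := by
    have h3 := h
    rw [hn', hdC] at h3
    push_cast at h3 ⊢
    have hpb : (p : ℂ) ^ b ≠ 0 := pow_ne_zero _ hp0
    apply mul_left_cancel₀ hpb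
    linear_combination h3
  constructor
  · intro htM
    have h4 : MemLocalIdeal M (((n' * m : ℤ)) : ℂ) := by
      rw [h2]
      exact memLocalIdeal_mul_left hMp (memLocalRing_natCast hMp d') htM
    have h5 := int_dvd_of_memLocalIdeal hM _ h4
    rcases (Nat.prime_iff_prime_int.mp hp).dvd_or_dvd h5 with h6 | h6
    · exact h6
    · exact absurd (Int.natCast_dvd_natCast.mp h6) hm
  · intro hpn
    have h4 : MemLocalIdeal M (((n' * m : ℤ)) : ℂ) :=
      memLocalIdeal_intCast_of_dvd hM _ (Dvd.dvd.mul_right hpn _)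
    rw [h2] at h4
    exact memLocalIdeal_of_natCast_mul hM hpd h4

/-- The valuation criterion in the form used below. -/
theorem val_iff {p : ℕ} [Fact p.Prime] {M : Ideal Cfsg.AlgInt} (hM : Cfsg.IsPModular p M) (n : ℤ)
    (d m : ℕ) (hd : 0 < d) (hm : ¬ p ∣ m) (t : ℂ) (ht : MemLocalRing M t)
    (h : (n : ℂ) * (m : ℂ) = (d : ℂ) * t) :
    (¬ MemLocalIdeal M t ↔ (n ≠ 0 ∧ padicValInt p n = d.factorization p)) ∧
      (MemLocalIdeal M t → (p : ℤ) ^ (d.factorization p + 1) ∣ n) := by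
  have hp : p.Prime := hM.1
  have hpz : (p : ℤ) ≠ 0 := by exact_mod_cast hp.ne_zero
  obtain ⟨n', hn', hiff⟩ := val_lemma hM n d m hd hm t ht h
  set b := d.factorization p with hb
  have hpb : (p : ℤ) ^ b ≠ 0 := pow_ne_zero _ hpz
  have hsucc : (p : ℤ) ^ (b + 1) ∣ n ↔ (p : ℤ) ∣ n' := by
    rw [hn', pow_succ]
    exact mul_dvd_mul_iff_left hpb
  refine ⟨?_, fun htM => hsucc.mpr (hiff.mp htM)⟩
  rw [hiff]
  constructor
  · intro hnd
    have hn0 : n ≠ 0 := by
      rintro rfl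
      have : n' = 0 := by
        rcases mul_eq_zero.mp hn'.symm with h1 | h1
        · exact absurd h1 hpb
        · exact h1
      exact hnd (this ▸ dvd_zero _)
    refine ⟨hn0, le_antisymm ?_ ?_⟩
    · by_contra hlt
      rw [not_le] at hlt
      have : (p : ℤ) ^ (b + 1) ∣ n := (padicValInt_dvd_iff (b + 1) n).mpr (Or.inr hlt)
      exact hnd (hsucc.mp this)
    · have : (p : ℤ) ^ b ∣ n := ⟨n', hn'⟩
      rcases (padicValInt_dvd_iff b n).mp this with h1 | h1
      · exact absurd h1 hn0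
      · exact h1
  · rintro ⟨hn0, hv⟩ hpn
    have : (p : ℤ) ^ (b + 1) ∣ n := hsucc.mpr hpn
    rcases (padicValInt_dvd_iff (b + 1) n).mp this with h1 | h1
    · exact hn0 h1
    · omega

section

variable {G : Type*} [Group G] [Fintype G]

/-- `conj χ` on `p`-regular elements, `0` elsewhere. -/
noncomputable def pRegConj (p : ℕ) (χ : G → ℂ) : G → ℂ :=
  fun x => if p ∣ orderOf x then 0 else conj (χ x)

theorem isRClass_pRegConj {M : Ideal Cfsg.AlgInt} (hMp : M.IsPrime) (p : ℕ)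
    (χ : Cfsg.IrrCharacter G) : IsRClass M (pRegConj p (χ : G → ℂ)) := by
  refine ⟨fun g h => ?_, fun g => ?_⟩
  · have h1 : orderOf (h * g * h⁻¹) = orderOf g :=
      orderOf_injective (MulAut.conj h).toMonoidHom (MulAut.conj h).injective g
    unfold pRegConj
    simp only [h1, Cfsg.Agent.Lib.Helper81.irr_conj_class χ g h]
  · unfold pRegConj
    split_ifs
    · exact memLocalRing_zero hMp
    · exact memLocalRing_of_isIntegral hMp
        (map_isIntegral_int (starRingEnd ℂ) (Cfsg.Agent.Lib.Helper79.irr_isIntegral χ.2 g))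

/-- `[χ̃, ξ] * |G|_{p'} = χ(1) * ω_χ(conj ξ on p-regular elements)`. -/
theorem inner_mul_eq_omega (p : ℕ) [Fact p.Prime] (χ ξ : Cfsg.IrrCharacter G) :
    Cfsg.classInner (fun x : G => if p ∣ orderOf x then (0 : ℂ) else
        ((p ^ (Nat.card G).factorization p : ℕ) : ℂ) * (χ : G → ℂ) x) (ξ : G → ℂ) *
      ((Nat.card G / p ^ (Nat.card G).factorization p : ℕ) : ℂ) =
      (Cfsg.charDegree (χ : G → ℂ) : ℂ) * omega (χ : G → ℂ) (pRegConj p (ξ : G → ℂ)) := by
  have hp : p.Prime := Fact.out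
  have hp0 : (p : ℂ) ≠ 0 := by exact_mod_cast hp.ne_zero
  obtain ⟨h1, hpos, hdvd⟩ := Cfsg.Agent.Lib.Helper79.irr_charDegree χ.2
  set a := (Nat.card G).factorization p with ha
  set m := Nat.card G / p ^ a with hm
  have hgg : p ^ a * m = Nat.card G := Nat.ordProj_mul_ordCompl_eq_self (Nat.card G) p
  have hG : (Nat.card G : ℂ) = (p : ℂ) ^ a * (m : ℂ) := by
    rw [← hgg]; push_cast; rfl
  have hG0 : (Nat.card G : ℂ) ≠ 0 := by exact_mod_cast Nat.card_pos.ne'
  have hm0 : (m : ℂ) ≠ 0 := by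
    intro h0; rw [h0, mul_zero] at hG; exact hG0 hG
  have hd0 : (Cfsg.charDegree (χ : G → ℂ) : ℂ) ≠ 0 := by exact_mod_cast hpos.ne'
  unfold Cfsg.classInner omega pRegConj
  rw [h1, hG, Finset.mul_sum, Finset.sum_mul, Finset.mul_sum]
  refine Finset.sum_congr rfl fun g _ => ?_
  beta_reduce
  by_cases hg : p ∣ orderOf g
  · simp only [if_pos hg, zero_mul, mul_zero, zero_div]
  · simp only [if_neg hg]
    push_cast
    field_simp

/-- `conj [χ̃, ξ] * |G|_{p'} = ξ(1) * ω_ξ(conj χ on p-regular elements)`. -/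
theorem conj_inner_mul_eq_omega (p : ℕ) [Fact p.Prime] (χ ξ : Cfsg.IrrCharacter G) :
    conj (Cfsg.classInner (fun x : G => if p ∣ orderOf x then (0 : ℂ) else
        ((p ^ (Nat.card G).factorization p : ℕ) : ℂ) * (χ : G → ℂ) x) (ξ : G → ℂ)) *
      ((Nat.card G / p ^ (Nat.card G).factorization p : ℕ) : ℂ) =
      (Cfsg.charDegree (ξ : G → ℂ) : ℂ) * omega (ξ : G → ℂ) (pRegConj p (χ : G → ℂ)) := by
  have hp : p.Prime := Fact.out
  have hp0 : (p : ℂ) ≠ 0 := by exact_mod_cast hp.ne_zero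
  obtain ⟨h1, hpos, hdvd⟩ := Cfsg.Agent.Lib.Helper79.irr_charDegree ξ.2
  set a := (Nat.card G).factorization p with ha
  set m := Nat.card G / p ^ a with hm
  have hgg : p ^ a * m = Nat.card G := Nat.ordProj_mul_ordCompl_eq_self (Nat.card G) p
  have hG : (Nat.card G : ℂ) = (p : ℂ) ^ a * (m : ℂ) := by
    rw [← hgg]; push_cast; rfl
  have hG0 : (Nat.card G : ℂ) ≠ 0 := by exact_mod_cast Nat.card_pos.ne'
  have hm0 : (m : ℂ) ≠ 0 := by
    intro h0; rw [h0, mul_zero] at hG; exact hG0 hG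
  have hd0 : (Cfsg.charDegree (ξ : G → ℂ) : ℂ) ≠ 0 := by exact_mod_cast hpos.ne'
  unfold Cfsg.classInner omega pRegConj
  rw [h1, hG, map_mul, map_sum, Finset.mul_sum, Finset.sum_mul, Finset.mul_sum]
  refine Finset.sum_congr rfl fun g _ => ?_
  beta_reduce
  by_cases hg : p ∣ orderOf g
  · simp only [if_pos hg, zero_mul, mul_zero, zero_div, map_zero]
  · simp only [if_neg hg, map_mul, map_inv₀, map_pow, Complex.conj_conj,
      map_natCast]
    push_cast
    field_simp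

/-- The `p'`-part of the group order is prime to `p`. -/
theorem not_dvd_card_div (p : ℕ) [Fact p.Prime] (G : Type*) [Group G] [Finite G] :
    ¬ p ∣ Nat.card G / p ^ (Nat.card G).factorization p :=
  Nat.not_dvd_ordCompl Fact.out Nat.card_pos.ne'

/-- For `ξ`, `χ` in the same block, `ω_ξ(conj χ on p-regular)` lies in the local ideal iff
`ω_χ(conj χ on p-regular)` does. -/
theorem memLocalIdeal_omega_iff {p : ℕ} [Fact p.Prime] {M : Ideal Cfsg.AlgInt}
    (hM : Cfsg.IsPModular p M) (B : Set (Cfsg.IrrCharacter G)) (hB : Cfsg.IsPBlock M B)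
    (χ ξ ψ : Cfsg.IrrCharacter G) (hχ : χ ∈ B) (hξ : ξ ∈ B) :
    MemLocalIdeal M (omega (ξ : G → ℂ) (pRegConj p (ψ : G → ℂ))) ↔
      MemLocalIdeal M (omega (χ : G → ℂ) (pRegConj p (ψ : G → ℂ))) := by
  have hMp := isPrime_of_isPModular hM
  have h1 := memLocalIdeal_omega_sub hMp (IsPBlock.sameBlock hMp hB hξ hχ) (isRClass_pRegConj hMp p ψ)
  constructor
  · intro h
    have := memLocalIdeal_sub hMp h h1
    rwa [sub_sub_cancel] at this
  · intro h
    have := memLocalIdeal_add hMp h1 h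
    rwa [sub_add_cancel] at this

/-- A character of height zero has `ω_χ(conj χ on p-regular)` outside the local ideal. -/
theorem not_memLocalIdeal_of_height_zero {p : ℕ} [Fact p.Prime] {M : Ideal Cfsg.AlgInt}
    (hM : Cfsg.IsPModular p M) (B : Set (Cfsg.IrrCharacter G)) (hB : Cfsg.IsPBlock M B)
    (χ : Cfsg.IrrCharacter G) (hχ : χ ∈ B) (h0 : Cfsg.blockHeight p B (χ : G → ℂ) = 0) :
    ¬ MemLocalIdeal M (omega (χ : G → ℂ) (pRegConj p (χ : G → ℂ))) := by
  classical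
  intro hcon
  have hMp := isPrime_of_isPModular hM
  have hp : p.Prime := Fact.out
  have hp0 : (p : ℂ) ≠ 0 := by exact_mod_cast hp.ne_zero
  have := Cfsg.Agent.Lib.Helper81.irr_finite G
  have := Fintype.ofFinite (Cfsg.IrrCharacter G)
  obtain ⟨a, ha0, haB, hexp⟩ := pRegular_block_expansion p M hM B hB χ hχ
  set b := (Cfsg.charDegree (χ : G → ℂ)).factorization p with hb
  have hdiv : ∀ ψ : Cfsg.IrrCharacter G, (p : ℤ) ^ (b + 1) ∣ a ψ := by
    intro ψ
    by_cases hψ : ψ ∈ B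
    · obtain ⟨h1, hpos, hdvd⟩ := Cfsg.Agent.Lib.Helper79.irr_charDegree ψ.2
      have hK := conj_inner_mul_eq_omega p χ ψ
      rw [← haB ψ hψ, map_intCast] at hK
      have hmem : MemLocalIdeal M (omega (ψ : G → ℂ) (pRegConj p (χ : G → ℂ))) :=
        (memLocalIdeal_omega_iff hM B hB χ ψ χ hχ hψ).mpr hcon
      have hv := (val_iff hM (a ψ) _ _ hpos (not_dvd_card_div p G) _
        (memLocalRing_omega hMp ψ (isRClass_pRegConj hMp p χ)) hK).2 hmem
      have hle : b ≤ (Cfsg.charDegree (ψ : G → ℂ)).factorization p := by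
        have hmem' : (Cfsg.charDegree (ψ : G → ℂ)).factorization p ∈
            ((fun χ : Cfsg.IrrCharacter G => (Cfsg.charDegree (χ : G → ℂ)).factorization p) '' B) :=
          ⟨ψ, hψ, rfl⟩
        have := Nat.sInf_le hmem'
        unfold Cfsg.blockHeight at h0
        omega
      exact (pow_dvd_pow (p : ℤ) (Nat.succ_le_succ hle)).trans hv
    · rw [ha0 ψ hψ]; exact dvd_zero _
  choose c hc using hdiv
  apply (Cfsg.Agent.S4425.result p χ).2
  have hfun : (fun x : G => if p ∣ orderOf x then (0 : ℂ) else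
      ((p ^ (Nat.card G).factorization p : ℕ) : ℂ) /
        ((p ^ ((Cfsg.charDegree (χ : G → ℂ)).factorization p + 1) : ℕ) : ℂ) * (χ : G → ℂ) x) =
      ∑ ψ : Cfsg.IrrCharacter G, c ψ • (ψ : G → ℂ) := by
    funext x
    have hx := congrFun hexp x
    rw [finsum_eq_sum_of_fintype] at hx
    have e1 : (if p ∣ orderOf x then (0 : ℂ) else
        ((p ^ (Nat.card G).factorization p : ℕ) : ℂ) /
          ((p ^ ((Cfsg.charDegree (χ : G → ℂ)).factorization p + 1) : ℕ) : ℂ) * (χ : G → ℂ) x) =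
        (if p ∣ orderOf x then (0 : ℂ) else
          ((p ^ (Nat.card G).factorization p : ℕ) : ℂ) * (χ : G → ℂ) x) /
          ((p ^ (b + 1) : ℕ) : ℂ) := by
      split_ifs
      · rw [zero_div]
      · rw [hb]; ring
    rw [e1, hx, Finset.sum_apply, Finset.sum_div]
    refine Finset.sum_congr rfl fun ψ _ => ?_
    rw [Pi.smul_apply, zsmul_eq_mul, hc ψ]
    push_cast
    have hpb : (p : ℂ) ^ (b + 1) ≠ 0 := pow_ne_zero _ hp0
    field_simp
  rw [hfun]
  exact isGen_sum _ _ (fun ψ _ => isGen_zsmul (isGen_of_irr ψ.2) (c ψ))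

/-- **Brauer–Feit criterion**: `[χ̃, ξ]` is a nonzero integer of the same `p`-adic valuation as
`ξ 1` iff `ω_χ(conj χ on p-regular)` is a unit of the local ring. -/
theorem inner_val_iff {p : ℕ} [Fact p.Prime] {M : Ideal Cfsg.AlgInt}
    (hM : Cfsg.IsPModular p M) (B : Set (Cfsg.IrrCharacter G)) (hB : Cfsg.IsPBlock M B)
    (χ : Cfsg.IrrCharacter G) (hχ : χ ∈ B) (ξ : Cfsg.IrrCharacter G) (hξ : ξ ∈ B) :
    (∃ n : ℤ, Cfsg.classInner (fun x : G => if p ∣ orderOf x then (0 : ℂ) else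
        ((p ^ (Nat.card G).factorization p : ℕ) : ℂ) * (χ : G → ℂ) x) (ξ : G → ℂ) = (n : ℂ) ∧
        n ≠ 0 ∧ padicValInt p n = (Cfsg.charDegree (ξ : G → ℂ)).factorization p) ↔
      ¬ MemLocalIdeal M (omega (χ : G → ℂ) (pRegConj p (χ : G → ℂ))) := by
  classical
  have hMp := isPrime_of_isPModular hM
  obtain ⟨a, ha0, haB, hexp⟩ := pRegular_block_expansion p M hM B hB χ hχ
  obtain ⟨h1, hpos, hdvd⟩ := Cfsg.Agent.Lib.Helper79.irr_charDegree ξ.2
  have hK := conj_inner_mul_eq_omega p χ ξ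
  rw [← haB ξ hξ, map_intCast] at hK
  have hv := (val_iff hM (a ξ) _ _ hpos (not_dvd_card_div p G) _
    (memLocalRing_omega hMp ξ (isRClass_pRegConj hMp p χ)) hK).1
  rw [memLocalIdeal_omega_iff hM B hB χ ξ χ hχ hξ] at hv
  rw [hv]
  constructor
  · rintro ⟨n, hn, hn0, hnv⟩
    have : n = a ξ := by
      have : (n : ℂ) = (a ξ : ℂ) := by rw [← hn, haB ξ hξ]
      exact_mod_cast this
    rw [← this]
    exact ⟨hn0, hnv⟩
  · rintro ⟨hn0, hnv⟩
    exact ⟨a ξ, (haB ξ hξ).symm, hn0, hnv⟩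

/-- Height zero is detected by `ω_χ(conj χ on p-regular)`. -/
theorem height_zero_iff {p : ℕ} [Fact p.Prime] {M : Ideal Cfsg.AlgInt}
    (hM : Cfsg.IsPModular p M) (B : Set (Cfsg.IrrCharacter G)) (hB : Cfsg.IsPBlock M B)
    (χ : Cfsg.IrrCharacter G) (hχ : χ ∈ B) :
    Cfsg.blockHeight p B (χ : G → ℂ) = 0 ↔
      ¬ MemLocalIdeal M (omega (χ : G → ℂ) (pRegConj p (χ : G → ℂ))) := by
  classical
  have hMp := isPrime_of_isPModular hM
  refine ⟨not_memLocalIdeal_of_height_zero hM B hB χ hχ, fun hQ => ?_⟩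
  obtain ⟨ξ₀, hξ₀, hht⟩ := exists_height_zero p B ⟨χ, hχ⟩
  have hQ₀ := not_memLocalIdeal_of_height_zero hM B hB ξ₀ hξ₀ hht
  obtain ⟨a, ha0, haB, hexp⟩ := pRegular_block_expansion p M hM B hB χ hχ
  obtain ⟨h1, hpos, hdvd⟩ := Cfsg.Agent.Lib.Helper79.irr_charDegree ξ₀.2
  obtain ⟨h1', hpos', hdvd'⟩ := Cfsg.Agent.Lib.Helper79.irr_charDegree χ.2
  -- first expression
  have hK := conj_inner_mul_eq_omega p χ ξ₀
  rw [← haB ξ₀ hξ₀, map_intCast] at hK
  have hv := (val_iff hM (a ξ₀) _ _ hpos (not_dvd_card_div p G) _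
    (memLocalRing_omega hMp ξ₀ (isRClass_pRegConj hMp p χ)) hK).1
  rw [memLocalIdeal_omega_iff hM B hB χ ξ₀ χ hχ hξ₀] at hv
  -- second expression
  have hK2 := inner_mul_eq_omega p χ ξ₀
  rw [← haB ξ₀ hξ₀] at hK2
  have hv2 := (val_iff hM (a ξ₀) _ _ hpos' (not_dvd_card_div p G) _
    (memLocalRing_omega hMp χ (isRClass_pRegConj hMp p ξ₀)) hK2).1
  rw [memLocalIdeal_omega_iff hM B hB ξ₀ χ ξ₀ hξ₀ hχ] at hv2
  have e1 := (hv.mp hQ).2
  have e2 := (hv2.mp hQ₀).2
  have e3 : (Cfsg.charDegree (χ : G → ℂ)).factorization p =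
      (Cfsg.charDegree (ξ₀ : G → ℂ)).factorization p := by
    have : ((Cfsg.charDegree (χ : G → ℂ)).factorization p : ℤ) =
      ((Cfsg.charDegree (ξ₀ : G → ℂ)).factorization p : ℤ) := by rw [← e1, ← e2]
    exact_mod_cast this
  unfold Cfsg.blockHeight at hht ⊢
  rw [e3]
  exact hht

end

end Cfsg.Agent.Lib.Helper76
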