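import Mathlib
import Cfsg.Agent.S4604

/-!
# Separating `p`-regular classes by character values modulo a prime over `p`
-/

set_option autoImplicit false

namespace Cfsg.Agent.Lib.Helper76

open Cfsg Cfsg.Agent.Lib.Helper16 Cfsg.Agent.Lib.Helper81 Cfsg.Agent.S4604

/-- If `u = x * x'⁻¹` is a `p`-element commuting with `x'`, then `χ x - χ x'` lies in every
maximal ideal of the algebraic integers containing `p`. -/
theorem irr_sub_mem {G : Type*} [Group G] [Finite G] (p : ℕ) (M : Ideal Cfsg.AlgInt)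
    (hM : Cfsg.IsPModular p M) (χ : Cfsg.IrrCharacter G) (x x' : G)
    (hx : (∃ k : ℕ, orderOf (x * x'⁻¹) = p ^ k) ∧ Commute (x * x'⁻¹) x' ∧ ¬ p ∣ orderOf x') :
    ∃ m : Cfsg.AlgInt, m ∈ M ∧ (m : ℂ) = (χ : G → ℂ) x - (χ : G → ℂ) x' := by
  have hp : p.Prime := hM.1
  have hMp : M.IsPrime := isPrime_of_isPModular hM
  have hpM : (p : Cfsg.AlgInt) ∈ M := hM.2.2
  obtain ⟨γ, hγ⟩ := irr_pow_sub p hp χ x x' hx
  set q := p ^ (Nat.card G).factorization p with hq
  let A : Cfsg.AlgInt := ⟨(χ : G → ℂ) x, Cfsg.Agent.Lib.Helper79.irr_isIntegral χ.2 x⟩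
  let B : Cfsg.AlgInt := ⟨(χ : G → ℂ) x', Cfsg.Agent.Lib.Helper79.irr_isIntegral χ.2 x'⟩
  have h3 : A ^ q - B ^ q = (p : Cfsg.AlgInt) * γ := by
    apply Subtype.ext
    push_cast
    exact hγ
  obtain ⟨r, hr⟩ := exists_add_pow_prime_pow_eq hp (A - B) B ((Nat.card G).factorization p)
  rw [sub_add_cancel] at hr
  have h4 : (A - B) ^ q = (p : Cfsg.AlgInt) * (γ - (A - B) * B * r) := by
    have : (A - B) ^ q = A ^ q - B ^ q - p * (A - B) * B * r := by rw [hq, hr]; ring
    rw [this, h3]; ring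
  have h5 : (A - B) ^ q ∈ M := by
    rw [h4]
    exact M.mul_mem_right _ hpM
  exact ⟨A - B, hMp.mem_of_pow_mem q h5, by push_cast; rfl⟩

/-- Two `p`-regular elements whose irreducible character values are congruent modulo a maximal
ideal over `p` are conjugate. -/
theorem isConj_of_forall_mem {G : Type*} [Group G] [Finite G] (p : ℕ) (M : Ideal Cfsg.AlgInt)
    (hM : Cfsg.IsPModular p M) (x' y' : G) (hx : ¬ p ∣ orderOf x') (hy : ¬ p ∣ orderOf y')
    (step1 : ∀ χ : Cfsg.IrrCharacter G, ∃ m : Cfsg.AlgInt, m ∈ M ∧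
        (m : ℂ) = (χ : G → ℂ) x' - (χ : G → ℂ) y') : IsConj x' y' := by
  classical
  have hp : p.Prime := hM.1
  have : Fact p.Prime := ⟨hp⟩
  have : Fintype G := Fintype.ofFinite G
  have : Finite (Cfsg.IrrCharacter G) := irr_finite G
  have : Fintype (Cfsg.IrrCharacter G) := Fintype.ofFinite _
  have hMp : M.IsPrime := isPrime_of_isPModular hM
  by_contra hnc
  -- Step 2 : the Sylow subgroup of the centralizer
  let C := Subgroup.centralizer ({x'} : Set G)
  obtain ⟨P⟩ : Nonempty (Sylow p C) := inferInstance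
  let P' : Subgroup G := (P : Subgroup C).map C.subtype
  have hP'comm : ∀ u ∈ P', u * x' = x' * u := by
    intro u hu
    obtain ⟨v, -, rfl⟩ := hu
    have := v.2
    rw [Subgroup.mem_centralizer_singleton_iff] at this
    exact this
  have hP'p : ∀ u ∈ P', ∃ k : ℕ, orderOf u = p ^ k := by
    intro u hu
    obtain ⟨v, hv, rfl⟩ := hu
    obtain ⟨k, hk⟩ := P.2 ⟨v, hv⟩
    have h6 : (C.subtype v) ^ p ^ k = 1 := by
      have h7 := congrArg (fun w : (P : Subgroup C) => ((w : C) : G)) hk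
      simpa using h7
    obtain ⟨j, -, hj⟩ := (Nat.dvd_prime_pow hp).mp (orderOf_dvd_of_pow_eq_one h6)
    exact ⟨j, hj⟩
  have : Fintype P' := Fintype.ofFinite _
  have hsum : ∀ χ : Cfsg.IrrCharacter G, ∃ t : ℂ, IsIntegral ℤ t ∧
      ∑ u : P', (χ : G → ℂ) ((u : G) * x') = (Nat.card P' : ℂ) * t := fun χ =>
    Cfsg.Agent.Lib.Helper77.sum_subgroup_char_mul P' (χ : G → ℂ)
      (Cfsg.Agent.Lib.Helper80.isCharacter_of_isIrrCharacter χ.2) x' hP'comm
  choose t ht using hsum
  -- column orthogonality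
  have hcolx : ∑ u : P', ∑ χ : Cfsg.IrrCharacter G,
      (χ : G → ℂ) ((u : G) * x') * starRingEnd ℂ ((χ : G → ℂ) x') = (Nat.card C : ℂ) := by
    rw [Finset.sum_eq_single (1 : P')]
    · rw [irr_col_orth]
      congr 1
      apply Nat.card_congr
      refine ⟨fun y => ⟨y.1, ?_⟩, fun y => ⟨y.1, ?_⟩, fun y => rfl, fun y => rfl⟩
      · rw [Subgroup.mem_centralizer_singleton_iff]
        have := y.2
        simp only [OneMemClass.coe_one, one_mul] at this
        rw [mul_inv_eq_iff_eq_mul] at this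
        exact this
      · have := y.2
        rw [Subgroup.mem_centralizer_singleton_iff] at this
        simp only [OneMemClass.coe_one, one_mul]
        rw [mul_inv_eq_iff_eq_mul]
        exact this
    · intro u _ hu1
      rw [irr_col_orth]
      have : IsEmpty {y : G // y * x' * y⁻¹ = (u : G) * x'} := by
        constructor
        rintro ⟨y, hy⟩
        have hc : IsConj x' ((u : G) * x') := isConj_iff.mpr ⟨y, hy⟩
        have := eq_one_of_conj p hp (u : G) x' x' (hP'p u u.2) (hP'comm u u.2) hx hx hc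
        exact hu1 (Subtype.ext this)
      rw [Nat.card_of_isEmpty, Nat.cast_zero]
    · intro h; exact absurd (Finset.mem_univ _) h
  have hcoly : ∑ u : P', ∑ χ : Cfsg.IrrCharacter G,
      (χ : G → ℂ) ((u : G) * x') * starRingEnd ℂ ((χ : G → ℂ) y') = 0 := by
    apply Finset.sum_eq_zero
    intro u _
    rw [irr_col_orth]
    have : IsEmpty {y : G // y * y' * y⁻¹ = (u : G) * x'} := by
      constructor
      rintro ⟨y, hyy⟩
      have hc : IsConj y' ((u : G) * x') := isConj_iff.mpr ⟨y, hyy⟩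
      have h1 := eq_one_of_conj p hp (u : G) x' y' (hP'p u u.2) (hP'comm u u.2) hx hy hc
      rw [h1, one_mul] at hc
      exact hnc hc.symm
    rw [Nat.card_of_isEmpty, Nat.cast_zero]
  rw [Finset.sum_comm] at hcolx hcoly
  have hx2 : ∑ χ : Cfsg.IrrCharacter G, (Nat.card P' : ℂ) * t χ * starRingEnd ℂ ((χ : G → ℂ) x')
      = (Nat.card C : ℂ) := by
    rw [← hcolx]
    refine Finset.sum_congr rfl (fun χ _ => ?_)
    rw [← (ht χ).2, Finset.sum_mul]
  have hy2 : ∑ χ : Cfsg.IrrCharacter G, (Nat.card P' : ℂ) * t χ * starRingEnd ℂ ((χ : G → ℂ) y')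
      = 0 := by
    rw [← hcoly]
    refine Finset.sum_congr rfl (fun χ _ => ?_)
    rw [← (ht χ).2, Finset.sum_mul]
  -- the conjugate characters
  have step1' : ∀ χ : Cfsg.IrrCharacter G, ∃ m : Cfsg.AlgInt, m ∈ M ∧
      (m : ℂ) = starRingEnd ℂ ((χ : G → ℂ) x') - starRingEnd ℂ ((χ : G → ℂ) y') := fun χ =>
    step1 ⟨fun g => starRingEnd ℂ ((χ : G → ℂ) g), isIrrCharacter_conj χ.2⟩
  choose m hmM hm using step1'
  let μ : Cfsg.AlgInt := ∑ χ : Cfsg.IrrCharacter G, (⟨t χ, (ht χ).1⟩ : Cfsg.AlgInt) * m χ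
  have hμM : μ ∈ M := Ideal.sum_mem _ (fun χ _ => M.mul_mem_left _ (hmM χ))
  have hμ : (Nat.card C : ℂ) = (Nat.card P' : ℂ) * (μ : ℂ) := by
    have h8 : (μ : ℂ) = ∑ χ : Cfsg.IrrCharacter G, t χ * (starRingEnd ℂ ((χ : G → ℂ) x') -
        starRingEnd ℂ ((χ : G → ℂ) y')) := by
      simp only [μ]
      push_cast
      refine Finset.sum_congr rfl (fun χ _ => ?_)
      rw [hm χ]
    rw [h8, Finset.mul_sum, ← hx2, ← sub_zero (∑ χ : Cfsg.IrrCharacter G, _), ← hy2,
      ← Finset.sum_sub_distrib]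
    refine Finset.sum_congr rfl (fun χ _ => ?_)
    ring
  have hcard : Nat.card P' = Nat.card (P : Subgroup C) :=
    Nat.card_congr ((P : Subgroup C).equivMapOfInjective C.subtype C.subtype_injective).symm.toEquiv
  have hidx := (P : Subgroup C).card_mul_index
  have hP0 : (Nat.card P' : ℂ) ≠ 0 := by exact_mod_cast (Nat.card_pos (α := P')).ne'
  have h9 : (((P : Subgroup C).index : ℕ) : ℂ) = (μ : ℂ) := by
    apply mul_left_cancel₀ hP0
    rw [← hμ, ← hidx, hcard]
    push_cast; rfl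
  have h10 : (((P : Subgroup C).index : ℕ) : Cfsg.AlgInt) = μ := by
    apply Subtype.ext
    rw [← h9]
    simp
  have h11 : p ∣ (P : Subgroup C).index := (natCast_mem_iff hM _).mp (h10 ▸ hμM)
  exact P.not_dvd_index h11


end Cfsg.Agent.Lib.Helper76
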