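import Mathlib
import Cfsg.Agent.Lib.Helper76.PRegBlock
import Cfsg.Agent.Lib.Helper16.ClassSum

/-!
# The minimal `p`-regular truncation in its block

`p ^ (a - b) * χ` on `p`-regular elements (`b` the exponent of `p` in `χ 1`) is an integer
combination of the irreducible characters in the block of `χ`.
-/

set_option autoImplicit false

namespace Cfsg.Agent.Lib.Helper76

open Cfsg Cfsg.Agent.Lib.Helper16 Cfsg.Agent.Lib.Helper26 Cfsg.Agent.Lib.Helper78

/-- Expansion of `p ^ (a - b) * χ * 1_{p-reg}` in the block of `χ`, as a finite sum. -/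
theorem pRegular_block_expansion_min {G : Type*} [Group G] [Fintype G]
    [Fintype (Cfsg.IrrCharacter G)] (p : ℕ) [Fact p.Prime]
    (M : Ideal Cfsg.AlgInt) (hM : Cfsg.IsPModular p M) (B : Set (Cfsg.IrrCharacter G))
    (hB : Cfsg.IsPBlock M B) (χ : Cfsg.IrrCharacter G) (hχ : χ ∈ B) :
    ∃ a : Cfsg.IrrCharacter G → ℤ, (∀ ψ, ψ ∉ B → a ψ = 0) ∧
      ∀ x : G, (if p ∣ orderOf x then (0 : ℂ) else
        ((p ^ ((Nat.card G).factorization p - (Cfsg.charDegree (χ : G → ℂ)).factorization p) : ℕ) : ℂ)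
          * (χ : G → ℂ) x) = ∑ ψ : Cfsg.IrrCharacter G, (a ψ : ℂ) * (ψ : G → ℂ) x := by
  classical
  have hgen := isGen_pRegular p χ
  have hz := fun ψ : Cfsg.IrrCharacter G => classInner_gen_int hgen (isGen_of_irr ψ.2)
  choose z hz using hz
  refine ⟨fun ψ => if ψ ∈ B then z ψ else 0, fun ψ hψ => if_neg hψ, ?_⟩
  have hbp := blockPart_pRegular hM B hB χ hχ ((p ^ ((Nat.card G).factorization p -
    (Cfsg.charDegree (χ : G → ℂ)).factorization p) : ℕ) : ℂ)
  have hinst : Fintype.ofFinite G = (inferInstance : Fintype G) := Subsingleton.elim _ _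
  intro u
  have hu := congrFun hbp u
  rw [← hu]
  show ∑ᶠ ξ ∈ B, @Cfsg.classInner G _ (Fintype.ofFinite G) _ (ξ : G → ℂ) * (ξ : G → ℂ) u = _
  rw [hinst, finsum_mem_eq_sum_ite]
  refine Finset.sum_congr rfl fun ψ _ => ?_
  by_cases hψ : ψ ∈ B
  · simp only [if_pos hψ, hz]
  · simp only [if_neg hψ, Int.cast_zero, zero_mul]

end Cfsg.Agent.Lib.Helper76
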