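import Mathlib
import Cfsg.Agent.Lib.Helper76.PRegHeight

/-!
# Norm of the `p`-regular truncation, and the Brauer–Feit height bound

* `pRegular_norm`: `∑ [χ̃, ψ]² = p ^ a * [χ̃, χ]`;
* `dvd_degree_of_vanish_singular`: a generalized character vanishing on the `p`-singular elements
  has degree divisible by `p ^ a`;
* `height_zero_of_near_full`: if `p ^ (a - 1)` divides `ξ 1` then `ξ` has height zero in its block.
-/

set_option autoImplicit false

namespace Cfsg.Agent.Lib.Helper76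

open Cfsg Cfsg.Agent.Lib.Helper16 Cfsg.Agent.Lib.Helper26 Cfsg.Agent.Lib.Helper78
open scoped ComplexConjugate

section

variable {G : Type*} [Group G] [Fintype G]

/-- The norm of a truncation: `[c χ⁰, c χ⁰] = c * [c χ⁰, χ]`. -/
theorem classInner_trunc_self' (p : ℕ) (c : ℕ) (χ : G → ℂ) :
    Cfsg.classInner (fun x : G => if p ∣ orderOf x then (0 : ℂ) else (c : ℂ) * χ x)
      (fun x : G => if p ∣ orderOf x then (0 : ℂ) else (c : ℂ) * χ x) =
    (c : ℂ) * Cfsg.classInner (fun x : G => if p ∣ orderOf x then (0 : ℂ) else (c : ℂ) * χ x) χ := by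
  have key : ∀ g : G, (if p ∣ orderOf g then (0 : ℂ) else (c : ℂ) * χ g) *
      (starRingEnd ℂ) (if p ∣ orderOf g then (0 : ℂ) else (c : ℂ) * χ g) =
      (c : ℂ) * ((if p ∣ orderOf g then (0 : ℂ) else (c : ℂ) * χ g) * (starRingEnd ℂ) (χ g)) := by
    intro g
    by_cases hg : p ∣ orderOf g
    · simp only [if_pos hg, zero_mul, mul_zero]
    · simp only [if_neg hg, map_mul, map_natCast]
      ring
  unfold Cfsg.classInner
  simp only [key]
  rw [← Finset.mul_sum]
  ring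

/-- Expansion of `χ̃` in its block together with the norm identity, with finite sums. -/
theorem pRegular_norm [Fintype (Cfsg.IrrCharacter G)] (p : ℕ) [Fact p.Prime]
    (M : Ideal Cfsg.AlgInt) (hM : Cfsg.IsPModular p M) (B : Set (Cfsg.IrrCharacter G))
    (hB : Cfsg.IsPBlock M B) (χ : Cfsg.IrrCharacter G) (hχ : χ ∈ B) :
    ∃ a : Cfsg.IrrCharacter G → ℤ, (∀ ψ, ψ ∉ B → a ψ = 0) ∧
      (∀ ψ, ψ ∈ B → (a ψ : ℂ) = Cfsg.classInner (fun x : G => if p ∣ orderOf x then (0 : ℂ) else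
        ((p ^ (Nat.card G).factorization p : ℕ) : ℂ) * (χ : G → ℂ) x) (ψ : G → ℂ)) ∧
      (∀ x : G, (if p ∣ orderOf x then (0 : ℂ) else
        ((p ^ (Nat.card G).factorization p : ℕ) : ℂ) * (χ : G → ℂ) x) =
        ∑ ψ : Cfsg.IrrCharacter G, (a ψ : ℂ) * (ψ : G → ℂ) x) ∧
      ∑ ψ : Cfsg.IrrCharacter G, (a ψ) ^ 2 = (p : ℤ) ^ (Nat.card G).factorization p * a χ := by
  classical
  obtain ⟨a, ha0, haB, hexp⟩ := pRegular_block_expansion p M hM B hB χ hχ
  set A := (Nat.card G).factorization p with hA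
  have hx : ∀ x : G, (if p ∣ orderOf x then (0 : ℂ) else
      ((p ^ A : ℕ) : ℂ) * (χ : G → ℂ) x) = ∑ ψ : Cfsg.IrrCharacter G, (a ψ : ℂ) * (ψ : G → ℂ) x := by
    intro x
    have := congrFun hexp x
    rw [finsum_eq_sum_of_fintype] at this
    exact this
  refine ⟨a, ha0, haB, hx, ?_⟩
  have h1 := classInner_trunc_self' p (p ^ A) (χ : G → ℂ)
  rw [← haB χ hχ] at h1
  have hfun : (fun x : G => if p ∣ orderOf x then (0 : ℂ) else
      ((p ^ A : ℕ) : ℂ) * (χ : G → ℂ) x) =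
      ∑ ψ : Cfsg.IrrCharacter G, (a ψ : ℂ) • (ψ : G → ℂ) := by
    funext x
    rw [hx x, Finset.sum_apply]
    rfl
  rw [hfun, classInner_expansion] at h1
  have h2 : ((∑ ξ : Cfsg.IrrCharacter G, (a ξ) ^ 2 : ℤ) : ℂ) = (((p : ℤ) ^ A * a χ : ℤ) : ℂ) := by
    push_cast
    rw [show ((p : ℂ) ^ A * (a χ : ℂ)) = ((p ^ A : ℕ) : ℂ) * (a χ : ℂ) by push_cast; ring, ← h1]
    refine Finset.sum_congr rfl fun ξ _ => ?_
    rw [map_intCast]
    ring
  exact_mod_cast h2

/-- A generalized character vanishing on the `p`-singular elements has degree divisible by the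
`p`-part of the group order. -/
theorem dvd_degree_of_vanish_singular (p : ℕ) [Fact p.Prime] (θ : G → ℂ)
    (hθ : Cfsg.IsGeneralizedCharacter G θ) (hv : ∀ g : G, p ∣ orderOf g → θ g = 0) :
    ∃ z : ℤ, θ 1 = ((p ^ (Nat.card G).factorization p : ℕ) : ℂ) * (z : ℂ) := by
  classical
  have hp : p.Prime := Fact.out
  have hp0 : (p : ℂ) ≠ 0 := by exact_mod_cast hp.ne_zero
  obtain ⟨P⟩ : Nonempty (Sylow p G) := inferInstance
  have : Fintype (P : Subgroup G) := Fintype.ofFinite _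
  have : Finite (Cfsg.IrrCharacter (P : Subgroup G)) := Cfsg.Agent.Lib.Helper81.irr_finite _
  have : Fintype (Cfsg.IrrCharacter (P : Subgroup G)) := Fintype.ofFinite _
  set a := (Nat.card G).factorization p with ha
  have hPcard : Nat.card (P : Subgroup G) = p ^ a := P.card_eq_multiplicity
  have hres : Cfsg.IsGeneralizedCharacter (P : Subgroup G) (fun u : (P : Subgroup G) => θ u) := by
    obtain ⟨χ₁, χ₂, h₁, h₂, he⟩ := hθ
    refine ⟨fun u => χ₁ u, fun u => χ₂ u, Cfsg.Agent.Lib.Helper75.isCharacter_res _ h₁,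
      Cfsg.Agent.Lib.Helper75.isCharacter_res _ h₂, ?_⟩
    funext u
    have := congrFun he (u : G)
    simpa using this
  have hone : Cfsg.IsGeneralizedCharacter (P : Subgroup G) (fun _ : (P : Subgroup G) => (1 : ℂ)) :=
    isGen_of_irr Cfsg.Agent.Lib.Helper81.isIrrCharacter_one
  obtain ⟨z, hz⟩ := classInner_gen_int hres hone
  have hsum : ∑ u : (P : Subgroup G), θ u * (starRingEnd ℂ) (1 : ℂ) = θ 1 := by
    rw [Finset.sum_eq_single (1 : (P : Subgroup G))]
    · simp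
    · intro u _ hu
      have hu' : p ∣ orderOf (u : G) := by
        obtain ⟨j, hj⟩ := (IsPGroup.iff_orderOf.mp P.2) u
        rw [Subgroup.orderOf_coe, hj]
        have hj0 : j ≠ 0 := by
          rintro rfl
          rw [pow_zero, orderOf_eq_one_iff] at hj
          exact hu hj
        exact dvd_pow_self p hj0
      rw [hv _ hu', zero_mul]
    · intro h; exact absurd (Finset.mem_univ _) h
  unfold Cfsg.classInner at hz
  rw [hsum, hPcard] at hz
  refine ⟨z, ?_⟩
  rw [← hz]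
  push_cast
  field_simp

/-- **Brauer–Feit height bound**, in the form: a character whose degree is divisible by
`p ^ (a - 1)` has height zero in its block. -/
theorem height_zero_of_near_full {p : ℕ} [Fact p.Prime] {M : Ideal Cfsg.AlgInt}
    (hM : Cfsg.IsPModular p M) (B : Set (Cfsg.IrrCharacter G)) (hB : Cfsg.IsPBlock M B)
    (ξ : Cfsg.IrrCharacter G) (hξ : ξ ∈ B)
    (hdiv : (Nat.card G).factorization p ≤ (Cfsg.charDegree (ξ : G → ℂ)).factorization p + 1) :
    Cfsg.blockHeight p B (ξ : G → ℂ) = 0 := by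
  classical
  by_contra hne
  have hMp := isPrime_of_isPModular hM
  have hp : p.Prime := Fact.out
  have hpz : (p : ℤ) ≠ 0 := by exact_mod_cast hp.ne_zero
  have := Cfsg.Agent.Lib.Helper81.irr_finite G
  have := Fintype.ofFinite (Cfsg.IrrCharacter G)
  have ht : MemLocalIdeal M (omega (ξ : G → ℂ) (pRegConj p (ξ : G → ℂ))) := by
    by_contra h
    exact hne ((height_zero_iff hM B hB ξ hξ).mpr h)
  obtain ⟨a, ha0, haB, hexp, hnorm⟩ := pRegular_norm p M hM B hB ξ hξ
  obtain ⟨h1, hpos, hdvd⟩ := Cfsg.Agent.Lib.Helper79.irr_charDegree ξ.2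
  set A := (Nat.card G).factorization p with hA
  set v := (Cfsg.charDegree (ξ : G → ℂ)).factorization p with hv
  have hK := conj_inner_mul_eq_omega p ξ ξ
  rw [← haB ξ hξ, map_intCast] at hK
  have hv1 := (val_iff hM (a ξ) _ _ hpos (not_dvd_card_div p G) _
    (memLocalRing_omega hMp ξ (isRClass_pRegConj hMp p ξ)) hK).2 ht
  have hpA : (p : ℤ) ^ A ∣ a ξ := (pow_dvd_pow (p : ℤ) hdiv).trans hv1
  have hpApos : (0 : ℤ) < (p : ℤ) ^ A := by
    have : (0 : ℤ) < (p : ℤ) := by exact_mod_cast hp.pos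
    positivity
  -- `a ξ` is positive
  have hnn : 0 ≤ (p : ℤ) ^ A * a ξ := by
    rw [← hnorm]; exact Finset.sum_nonneg fun ψ _ => sq_nonneg _
  have hge : 0 ≤ a ξ := by
    by_contra hlt
    rw [not_le] at hlt
    nlinarith
  have hne0 : a ξ ≠ 0 := by
    intro h0
    have hall : ∀ ψ : Cfsg.IrrCharacter G, a ψ = 0 := by
      intro ψ
      have hz : ∑ ψ : Cfsg.IrrCharacter G, (a ψ) ^ 2 = 0 := by rw [hnorm, h0, mul_zero]
      have := (Finset.sum_eq_zero_iff_of_nonneg (fun ψ _ => sq_nonneg (a ψ))).mp hz ψ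
        (Finset.mem_univ ψ)
      exact pow_eq_zero_iff (two_ne_zero) |>.mp this
    have h1' := hexp 1
    rw [if_neg (by rw [orderOf_one]; exact hp.one_lt.ne' ∘ Nat.dvd_one.mp)] at h1'
    simp only [hall, Int.cast_zero, zero_mul, Finset.sum_const_zero] at h1'
    rw [h1] at h1'
    have hp0 : (p : ℂ) ≠ 0 := by exact_mod_cast hp.ne_zero
    have hd0 : (Cfsg.charDegree (ξ : G → ℂ) : ℂ) ≠ 0 := by exact_mod_cast hpos.ne'
    rcases mul_eq_zero.mp h1' with h | h
    · exact pow_ne_zero A hp0 (by exact_mod_cast h)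
    · exact hd0 h
  have hpos' : 0 < a ξ := lt_of_le_of_ne hge (Ne.symm hne0)
  have hle : a ξ ≤ (p : ℤ) ^ A := by
    have h2 : (a ξ) ^ 2 ≤ ∑ ψ : Cfsg.IrrCharacter G, (a ψ) ^ 2 :=
      Finset.single_le_sum (f := fun ψ => (a ψ) ^ 2) (fun ψ _ => sq_nonneg _) (Finset.mem_univ ξ)
    rw [hnorm] at h2
    nlinarith
  have heq : a ξ = (p : ℤ) ^ A := le_antisymm hle (Int.le_of_dvd hpos' hpA)
  -- so `p ^ (v + 1)` divides `p ^ A`
  rw [heq] at hv1
  have hvA : v + 1 ≤ A := by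
    have h3 : p ^ (v + 1) ∣ p ^ A := by exact_mod_cast hv1
    exact (Nat.pow_dvd_pow_iff_le_right hp.one_lt).mp h3
  -- all other coefficients vanish
  have hother : ∀ ψ : Cfsg.IrrCharacter G, ψ ≠ ξ → a ψ = 0 := by
    intro ψ hψ
    have hsplit := Finset.add_sum_erase Finset.univ (fun ψ => (a ψ) ^ 2) (Finset.mem_univ ξ)
    have hz : ∑ ψ ∈ Finset.univ.erase ξ, (a ψ) ^ 2 = 0 := by
      have : (a ξ) ^ 2 + ∑ ψ ∈ Finset.univ.erase ξ, (a ψ) ^ 2 = (p : ℤ) ^ A * a ξ := by
        rw [← hnorm]; exact hsplit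
      rw [heq] at this
      nlinarith
    have := (Finset.sum_eq_zero_iff_of_nonneg (fun ψ _ => sq_nonneg (a ψ))).mp hz ψ
      (Finset.mem_erase.mpr ⟨hψ, Finset.mem_univ ψ⟩)
    exact pow_eq_zero_iff (two_ne_zero) |>.mp this
  -- hence `ξ` vanishes on `p`-singular elements
  have hvan : ∀ g : G, p ∣ orderOf g → (ξ : G → ℂ) g = 0 := by
    intro g hg
    have hx := hexp g
    rw [if_pos hg, Finset.sum_eq_single ξ (fun ψ _ hψ => by rw [hother ψ hψ]; simp)
      (fun h => absurd (Finset.mem_univ ξ) h)] at hx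
    rcases mul_eq_zero.mp hx.symm with h | h
    · exact absurd (by exact_mod_cast h) hne0
    · exact h
  obtain ⟨z, hz⟩ := dvd_degree_of_vanish_singular p (ξ : G → ℂ) (isGen_of_irr ξ.2) hvan
  rw [h1] at hz
  have hz' : (Cfsg.charDegree (ξ : G → ℂ) : ℤ) = (p : ℤ) ^ A * z := by exact_mod_cast hz
  have hdvd2 : p ^ A ∣ Cfsg.charDegree (ξ : G → ℂ) := by
    have : ((p ^ A : ℕ) : ℤ) ∣ (Cfsg.charDegree (ξ : G → ℂ) : ℤ) := ⟨z, by rw [hz']; push_cast; ring⟩
    exact Int.natCast_dvd_natCast.mp this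
  have hAv : A ≤ v := (hp.pow_dvd_iff_le_factorization hpos.ne').mp hdvd2
  omega

end

end Cfsg.Agent.Lib.Helper76
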