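import Mathlib
import Cfsg.Agent.Lib.Helper76.PRegNorm
import Cfsg.Agent.Lib.Helper76.PRegBlock2

/-!
# Brauer–Feit data

For a `p`-block `B` of defect `d` and a character `χ₀ ∈ B` of height zero, the integers
`m ξ = p ^ d * [χ₀⁰, ξ]` (`ξ ∈ B`) are nonzero, divisible by `p ^ height ξ`, and
`∑ m ξ ^ 2 = p ^ d * m χ₀`.  A similar statement for an arbitrary base character.
-/

set_option autoImplicit false

namespace Cfsg.Agent.Lib.Helper76

open Cfsg Cfsg.Agent.Lib.Helper16 Cfsg.Agent.Lib.Helper26 Cfsg.Agent.Lib.Helper78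
open scoped ComplexConjugate

section

variable {G : Type*} [Group G] [Fintype G]

/-- Symmetry of the inner products of truncations. -/
theorem classInner_trunc_swap (p : ℕ) (c c' : ℕ) (χ ξ : G → ℂ) :
    (c' : ℂ) * conj (Cfsg.classInner (fun x : G => if p ∣ orderOf x then (0 : ℂ) else
        (c : ℂ) * χ x) ξ) =
      (c : ℂ) * Cfsg.classInner (fun x : G => if p ∣ orderOf x then (0 : ℂ) else
        (c' : ℂ) * ξ x) χ := by
  have key : ∀ g : G, (c' : ℂ) * conj ((if p ∣ orderOf g then (0 : ℂ) else (c : ℂ) * χ g) *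
      conj (ξ g)) = (c : ℂ) * ((if p ∣ orderOf g then (0 : ℂ) else (c' : ℂ) * ξ g) * conj (χ g)) := by
    intro g
    by_cases hg : p ∣ orderOf g
    · simp only [if_pos hg, zero_mul, map_zero, mul_zero]
    · simp only [if_neg hg, map_mul, map_natCast, Complex.conj_conj]
      ring
  unfold Cfsg.classInner
  rw [map_mul, map_inv₀, map_natCast, map_sum, mul_left_comm, Finset.mul_sum]
  simp only [key]
  rw [← Finset.mul_sum]
  ring

/-- **Brauer–Feit data** for a base character of height zero. -/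
theorem brauer_feit_data [Fintype (Cfsg.IrrCharacter G)] {p : ℕ} [Fact p.Prime]
    {M : Ideal Cfsg.AlgInt} (hM : Cfsg.IsPModular p M) (B : Set (Cfsg.IrrCharacter G))
    (hB : Cfsg.IsPBlock M B) :
    ∃ (χ₀ : Cfsg.IrrCharacter G) (m : Cfsg.IrrCharacter G → ℤ), χ₀ ∈ B ∧
      Cfsg.blockHeight p B (χ₀ : G → ℂ) = 0 ∧
      (∀ ξ, ξ ∈ B → m ξ ≠ 0 ∧ (p : ℤ) ^ Cfsg.blockHeight p B (ξ : G → ℂ) ∣ m ξ) ∧
      ∑ ξ : Cfsg.IrrCharacter G, (m ξ) ^ 2 = (p : ℤ) ^ Cfsg.blockDefect p B * m χ₀ := by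
  classical
  have hMp := isPrime_of_isPModular hM
  have hp : p.Prime := Fact.out
  obtain ⟨χ, hχ, hht⟩ := exists_height_zero p B (IsPBlock.nonempty hMp hB)
  obtain ⟨a, ha0, haB, hexp, hnorm⟩ := pRegular_norm p M hM B hB χ hχ
  set A := (Nat.card G).factorization p with hA
  set d := Cfsg.blockDefect p B with hd
  have hdA : d ≤ A := by rw [hd]; unfold Cfsg.blockDefect; omega
  have hQ := (height_zero_iff hM B hB χ hχ).mp hht
  have hpz : (p : ℤ) ≠ 0 := by exact_mod_cast hp.ne_zero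
  have hq0 : (p : ℤ) ^ (A - d) ≠ 0 := pow_ne_zero _ hpz
  have hnz : ∀ ξ ∈ B, a ξ ≠ 0 ∧
      (p : ℤ) ^ (A - d + Cfsg.blockHeight p B (ξ : G → ℂ)) ∣ a ξ := by
    intro ξ hξ
    obtain ⟨n, hn, hn0, hnv⟩ := (inner_val_iff hM B hB χ hχ ξ hξ).mpr hQ
    have hna : n = a ξ := by
      have : (n : ℂ) = (a ξ : ℂ) := by rw [← hn, haB ξ hξ]
      exact_mod_cast this
    rw [← hna]
    refine ⟨hn0, ?_⟩
    rw [padicValInt_dvd_iff]
    right
    rw [hnv]
    have hmem : (Cfsg.charDegree (ξ : G → ℂ)).factorization p ∈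
        ((fun χ : Cfsg.IrrCharacter G => (Cfsg.charDegree (χ : G → ℂ)).factorization p) '' B) :=
      ⟨ξ, hξ, rfl⟩
    have := Nat.sInf_le hmem
    obtain ⟨h1, hpos, hdvd⟩ := Cfsg.Agent.Lib.Helper79.irr_charDegree ξ.2
    have hle : (Cfsg.charDegree (ξ : G → ℂ)).factorization p ≤ A :=
      (Nat.factorization_le_iff_dvd hpos.ne' Nat.card_pos.ne').mpr hdvd p
    have : (A - d + Cfsg.blockHeight p B (ξ : G → ℂ) : ℕ) ≤
        (Cfsg.charDegree (ξ : G → ℂ)).factorization p := by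
      rw [hd]; unfold Cfsg.blockDefect Cfsg.blockHeight; omega
    exact_mod_cast this
  have hm : ∀ ξ : Cfsg.IrrCharacter G, ∃ m : ℤ, a ξ = (p : ℤ) ^ (A - d) * m := by
    intro ξ
    by_cases hξ : ξ ∈ B
    · exact (Dvd.intro _ (by rw [pow_add])).trans (hnz ξ hξ).2
    · exact ⟨0, by rw [ha0 ξ hξ, mul_zero]⟩
  choose m hm using hm
  refine ⟨χ, m, hχ, hht, fun ξ hξ => ⟨?_, ?_⟩, ?_⟩
  · intro h0
    apply (hnz ξ hξ).1
    rw [hm ξ, h0, mul_zero]
  · have := (hnz ξ hξ).2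
    rw [hm ξ, pow_add] at this
    exact (mul_dvd_mul_iff_left hq0).mp this
  · have h1 : ((p : ℤ) ^ (A - d)) ^ 2 * ∑ ξ : Cfsg.IrrCharacter G, (m ξ) ^ 2 =
        ((p : ℤ) ^ (A - d)) ^ 2 * ((p : ℤ) ^ d * m χ) := by
      rw [Finset.mul_sum]
      have e : ∀ ξ : Cfsg.IrrCharacter G, ((p : ℤ) ^ (A - d)) ^ 2 * (m ξ) ^ 2 = (a ξ) ^ 2 := by
        intro ξ; rw [hm ξ]; ring
      simp only [e]
      rw [hnorm, hm χ]
      have e2 : (p : ℤ) ^ A = (p : ℤ) ^ (A - d) * (p : ℤ) ^ d := by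
        rw [← pow_add, Nat.sub_add_cancel hdA]
      rw [e2]
      ring
    exact mul_left_cancel₀ (pow_ne_zero 2 hq0) h1

/-- Data for an arbitrary base character `ξ ∈ B`: the coefficients of the minimal truncation
`p ^ (a - b) * ξ⁰` are nonzero at the height-zero characters, and their squares sum to
`p ^ (a - b)` times the coefficient at `ξ`. -/
theorem pRegular_min_data [Fintype (Cfsg.IrrCharacter G)] {p : ℕ} [Fact p.Prime]
    {M : Ideal Cfsg.AlgInt} (hM : Cfsg.IsPModular p M) (B : Set (Cfsg.IrrCharacter G))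
    (hB : Cfsg.IsPBlock M B) (ξ : Cfsg.IrrCharacter G) (hξ : ξ ∈ B) :
    ∃ c : Cfsg.IrrCharacter G → ℤ,
      (∀ ψ, ψ ∈ B → Cfsg.blockHeight p B (ψ : G → ℂ) = 0 → c ψ ≠ 0) ∧
      ∑ ψ : Cfsg.IrrCharacter G, (c ψ) ^ 2 =
        (p : ℤ) ^ ((Nat.card G).factorization p -
          (Cfsg.charDegree (ξ : G → ℂ)).factorization p) * c ξ := by
  classical
  have hp : p.Prime := Fact.out
  obtain ⟨c, hc0, hcexp⟩ := pRegular_block_expansion_min p M hM B hB ξ hξ
  set e := (Nat.card G).factorization p - (Cfsg.charDegree (ξ : G → ℂ)).factorization p with he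
  have hfun : (fun x : G => if p ∣ orderOf x then (0 : ℂ) else
      ((p ^ e : ℕ) : ℂ) * (ξ : G → ℂ) x) =
      ∑ ψ : Cfsg.IrrCharacter G, (c ψ : ℂ) • (ψ : G → ℂ) := by
    funext x
    rw [hcexp x, Finset.sum_apply]
    rfl
  have hinner : ∀ ψ : Cfsg.IrrCharacter G, Cfsg.classInner (fun x : G => if p ∣ orderOf x then
      (0 : ℂ) else ((p ^ e : ℕ) : ℂ) * (ξ : G → ℂ) x) (ψ : G → ℂ) = (c ψ : ℂ) := by
    intro ψ
    rw [hfun, classInner_expansion_irr]
  refine ⟨c, fun ψ hψ h0 hcz => ?_, ?_⟩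
  · obtain ⟨n, hn, hn0, -⟩ := (inner_val_iff hM B hB ψ hψ ξ hξ).mpr
      ((height_zero_iff hM B hB ψ hψ).mp h0)
    have hsw := classInner_trunc_swap p (p ^ e) (p ^ (Nat.card G).factorization p)
      (ξ : G → ℂ) (ψ : G → ℂ)
    rw [hinner ψ, hcz, hn] at hsw
    simp only [Int.cast_zero, map_zero, mul_zero] at hsw
    have hpe : ((p ^ e : ℕ) : ℂ) ≠ 0 := by exact_mod_cast (pow_pos hp.pos e).ne'
    rcases mul_eq_zero.mp hsw.symm with h | h
    · exact hpe h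
    · exact hn0 (by exact_mod_cast h)
  · have h1 := classInner_trunc_self' p (p ^ e) (ξ : G → ℂ)
    rw [hinner ξ] at h1
    rw [hfun, classInner_expansion] at h1
    have h2 : ((∑ ψ : Cfsg.IrrCharacter G, (c ψ) ^ 2 : ℤ) : ℂ) = (((p : ℤ) ^ e * c ξ : ℤ) : ℂ) := by
      push_cast
      rw [show ((p : ℂ) ^ e * (c ξ : ℂ)) = ((p ^ e : ℕ) : ℂ) * (c ξ : ℂ) by push_cast; ring, ← h1]
      refine Finset.sum_congr rfl fun ψ _ => ?_
      rw [map_intCast]
      ring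
    exact_mod_cast h2

end

end Cfsg.Agent.Lib.Helper76
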